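import Cfsg.Agent.Spor.J3i.S.D0

set_option autoImplicit false
set_option maxRecDepth 100000000
set_option Elab.async false

namespace Cfsg.Agent.Spor.J3i.S

theorem gr4 : sub M3 (U.growI W2 [3, 4, 4, 2, 1] (Nat.shiftLeft 1 136)) = true := by decide +kernel

theorem sd6 : U.sends [3, 3, 7, 3, 3] 0 136 = true := by decide +kernel

theorem gr7 : sub (ones 43605) (U.growI ([3, 3, 7, 3, 3] :: W2) [0, 4, 5, 5, 3, 2, 0, 4, 5, 5, 3, 2, 0, 4, 5, 5, 3, 2, 0, 4, 5, 5, 3, 2, 0, 4, 5, 5, 3, 2, 0, 4, 5, 5, 3, 2, 0, 4, 5, 5, 3, 2, 0, 4, 5, 5, 3, 2, 0, 4, 5, 5, 0, 4, 5, 0] (Nat.shiftLeft 1 0)) = true := by decide +kernel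

theorem gr10 : sub M9 (U.growI W2 [2, 4, 4, 3, 2] (Nat.shiftLeft 1 97)) = true := by decide +kernel

theorem sd12 : U.sends [3, 5, 1, 5] 0 97 = true := by decide +kernel

theorem gr13 : sub (ones 43605) (U.growI ([3, 5, 1, 5] :: W2) [0, 3, 5, 5, 4, 3, 0, 0, 1, 3, 5, 5, 4, 3, 2, 0, 0, 1, 2, 3, 4, 5, 5, 4, 3, 2, 1, 0, 0, 1, 2, 3, 4, 5, 5, 0] (Nat.shiftLeft 1 0)) = true := by decide +kernel

theorem gr16 : sub M15 (U.growI W2 [0, 2, 3, 4, 4, 3, 2, 1] (Nat.shiftLeft 1 365)) = true := by decide +kernel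

theorem sd18 : U.sends [3, 3, 7, 3, 5, 3] 0 365 = true := by decide +kernel

theorem gr19 : sub (ones 43605) (U.growI ([3, 3, 7, 3, 5, 3] :: W2) [0, 1, 3, 4, 5, 5, 4, 3, 2, 0, 1, 3, 4, 5, 5, 4, 3, 2, 0, 1, 3, 4, 5, 5, 4, 3, 2, 0, 1, 3, 4, 5, 5, 4, 3, 2, 0, 1, 4, 5, 0] (Nat.shiftLeft 1 0)) = true := by decide +kernel

theorem gr22 : sub M21 (U.growI W2 [2, 3, 4, 4, 3, 2, 1, 0, 1, 2, 4] (Nat.shiftLeft 1 7)) = true := by decide +kernel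

theorem sd24 : U.sends [3, 3] 0 7 = true := by decide +kernel

theorem gr25 : sub (ones 43605) (U.growI ([3, 3] :: W2) [0, 3, 4, 5, 5, 4, 3, 2, 1, 0, 0, 1, 2, 3, 4, 5, 5, 4, 3, 2, 1, 0, 0, 1, 2, 3, 4, 5, 5, 4, 3, 2, 1, 0, 0, 3, 5, 5] (Nat.shiftLeft 1 0)) = true := by decide +kernel

theorem gr28 : sub M27 (U.growI W2 [0, 1, 2, 3, 4, 4, 3, 2, 1, 0, 1] (Nat.shiftLeft 1 1348)) = true := by decide +kernel

theorem sd30 : U.sends [3, 5, 1, 7, 3, 5, 3] 0 1348 = true := by decide +kernel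

theorem gr31 : sub (ones 43605) (U.growI ([3, 5, 1, 7, 3, 5, 3] :: W2) [0, 1, 2, 3, 4, 5, 5, 4, 3, 2, 1, 0, 0, 1, 2, 3, 4, 5, 5, 4, 3, 2, 1, 0, 0, 1, 2, 3, 4] (Nat.shiftLeft 1 0)) = true := by decide +kernel

theorem gr34 : sub M33 (U.growI W2 [0, 2, 4, 4, 3, 2, 1, 1, 2, 4] (Nat.shiftLeft 1 1534)) = true := by decide +kernel

theorem sd36 : U.sends [5, 7, 3, 7, 1, 5] 0 1534 = true := by decide +kernel

theorem gr37 : sub (ones 43605) (U.growI ([5, 7, 3, 7, 1, 5] :: W2) [0, 1, 3, 5, 5, 4, 3, 2, 0, 0, 1, 2, 3, 4, 5, 5, 4, 3, 2, 1, 0, 0, 1, 2, 3, 4, 5, 5, 3] (Nat.shiftLeft 1 0)) = true := by decide +kernel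

theorem gr40 : sub M39 (U.growI W2 [0, 2, 3, 4, 4, 3, 2, 1, 0, 1, 2] (Nat.shiftLeft 1 2)) = true := by decide +kernel

theorem sd42 : U.sends [5] 0 2 = true := by decide +kernel

theorem gr43 : sub (ones 43605) (U.growI ([5] :: W2) [0, 1, 3, 4, 5, 5, 4, 3, 2, 1, 0, 0, 1, 2, 3, 4, 5, 5, 4, 3, 2, 1, 0, 0, 1, 2, 3, 4, 5, 5, 4, 3, 2, 1, 0, 1, 3] (Nat.shiftLeft 1 0)) = true := by decide +kernel

theorem gr46 : sub M45 (U.growI W2 [0, 2, 3, 4, 4, 3, 2, 1, 0, 1, 2] (Nat.shiftLeft 1 310)) = true := by decide +kernel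

theorem sd48 : U.sends [3, 1, 7, 7, 3, 7] 0 310 = true := by decide +kernel

theorem gr49 : sub (ones 43605) (U.growI ([3, 1, 7, 7, 3, 7] :: W2) [0, 1, 3, 4, 5, 5, 4, 3, 2, 1, 0, 0, 1, 2, 3, 4, 5, 5, 4, 3, 2, 1, 0, 0, 1, 2, 3, 4, 5] (Nat.shiftLeft 1 0)) = true := by decide +kernel

theorem gr52 : sub M51 (U.growI W2 [0, 2, 3, 4, 4, 3, 2, 1, 0, 1, 2, 4] (Nat.shiftLeft 1 1)) = true := by decide +kernel

theorem sd54 : U.sends [3] 0 1 = true := by decide +kernel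

theorem gr55 : sub (ones 43605) (U.growI ([3] :: W2) [0, 1, 3, 4, 5, 5, 4, 3, 2, 1, 0, 0, 1, 2, 3, 4, 5, 5, 4, 3, 2, 1, 0, 0, 1, 2, 3, 4, 5] (Nat.shiftLeft 1 0)) = true := by decide +kernel

theorem gr58 : sub M57 (U.growI W2 [0, 2, 3, 4, 4, 3, 2, 1, 0, 1, 2, 4] (Nat.shiftLeft 1 28)) = true := by decide +kernel

theorem sd60 : U.sends [3, 3, 7] 0 28 = true := by decide +kernel

theorem gr61 : sub (ones 43605) (U.growI ([3, 3, 7] :: W2) [0, 1, 3, 4, 5, 5, 4, 3, 2, 1, 0, 0, 1, 2, 3, 4, 5, 5, 4, 3, 2, 1, 0, 0, 1, 2, 3, 5] (Nat.shiftLeft 1 0)) = true := by decide +kernel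

theorem gr64 : sub M63 (U.growI W2 [0, 1, 2, 3, 4, 4, 3, 2, 1, 0, 1, 2] (Nat.shiftLeft 1 62)) = true := by decide +kernel

theorem sd66 : U.sends [7, 3, 3] 0 62 = true := by decide +kernel

theorem gr67 : sub (ones 43605) (U.growI ([7, 3, 3] :: W2) [0, 1, 2, 3, 4, 5, 5, 4, 3, 2, 1, 0, 0, 1, 2, 3, 4, 5, 5, 4, 3, 2, 1, 0, 0, 1, 2, 3] (Nat.shiftLeft 1 0)) = true := by decide +kernel

theorem gr70 : sub M69 (U.growI W2 [0, 1, 2, 3, 4, 4, 3, 2, 1, 0, 1, 2] (Nat.shiftLeft 1 20203)) = true := by decide +kernel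

theorem sd72 : U.sends [3, 5, 3, 7, 1, 7, 7, 3, 7] 0 20203 = true := by decide +kernel

theorem gr73 : sub (ones 43605) (U.growI ([3, 5, 3, 7, 1, 7, 7, 3, 7] :: W2) [0, 1, 2, 3, 4, 5, 5, 4, 3, 2, 1, 0, 0, 1, 2, 3, 4, 5, 5, 4, 3, 2, 1, 0, 0, 1, 2, 3, 4] (Nat.shiftLeft 1 0)) = true := by decide +kernel

theorem gr76 : sub M75 (U.growI W2 [0, 1, 2, 3, 4, 4, 3, 2, 1, 0, 1, 2, 4] (Nat.shiftLeft 1 3)) = true := by decide +kernel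

theorem sd78 : U.sends [7] 0 3 = true := by decide +kernel

theorem gr79 : sub (ones 43605) (U.growI ([7] :: W2) [0, 1, 2, 3, 4, 5, 5, 4, 3, 2, 1, 0, 0, 1, 2, 3, 4, 5, 5, 4, 3, 2, 1, 0, 0, 1, 2, 3, 4, 0] (Nat.shiftLeft 1 0)) = true := by decide +kernel

theorem gr82 : sub M81 (U.growI W2 [0, 1, 2, 3, 4, 4, 3, 2, 1, 0, 1, 2, 4] (Nat.shiftLeft 1 9)) = true := by decide +kernel

theorem sd84 : U.sends [3, 7] 0 9 = true := by decide +kernel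

theorem gr85 : sub (ones 43605) (U.growI ([3, 7] :: W2) [0, 1, 2, 3, 4, 5, 5, 4, 3, 2, 1, 0, 0, 1, 2, 3, 4, 5, 5, 4, 3, 2, 1, 0, 0, 1, 2] (Nat.shiftLeft 1 0)) = true := by decide +kernel

theorem gr88 : sub M87 (U.growI W2 [0, 1, 2, 3, 4, 4, 3, 2, 1, 0, 1, 2, 4] (Nat.shiftLeft 1 17)) = true := by decide +kernel

theorem sd90 : U.sends [7, 3] 0 17 = true := by decide +kernel

theorem gr91 : sub (ones 43605) (U.growI ([7, 3] :: W2) [0, 1, 2, 3, 4, 5, 5, 4, 3, 2, 1, 0, 0, 1, 2, 3, 4, 5, 5, 4, 3, 2, 1, 0, 0, 1, 2] (Nat.shiftLeft 1 0)) = true := by decide +kernel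

theorem gr94 : sub M93 (U.growI W2 [0, 1, 2, 3, 4, 4, 3, 2, 1, 0, 1, 2, 4] (Nat.shiftLeft 1 35)) = true := by decide +kernel

theorem sd96 : U.sends [3, 7, 3] 0 35 = true := by decide +kernel

theorem gr97 : sub (ones 43605) (U.growI ([3, 7, 3] :: W2) [0, 1, 2, 3, 4, 5, 5, 4, 3, 2, 1, 0, 0, 1, 2, 3, 4, 5, 5, 4, 3, 2, 1, 0, 0, 1, 2, 3] (Nat.shiftLeft 1 0)) = true := by decide +kernel

theorem gr100 : sub M99 (U.growI W2 [0, 1, 2, 3, 4, 4, 3, 2, 1, 0, 1, 2, 4] (Nat.shiftLeft 1 108)) = true := by decide +kernel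

theorem sd102 : U.sends [3, 7, 1, 3] 0 108 = true := by decide +kernel

theorem gr103 : sub (ones 43605) (U.growI ([3, 7, 1, 3] :: W2) [0, 1, 2, 3, 4, 5, 5, 4, 3, 2, 1, 0, 0, 1, 2, 3, 4, 5, 5, 4, 3, 2, 1, 0, 0, 1, 2] (Nat.shiftLeft 1 0)) = true := by decide +kernel

theorem gr106 : sub M105 (U.growI W2 [0, 2, 3, 4, 4, 3, 2, 1, 0, 1, 2, 4, 4] (Nat.shiftLeft 1 64)) = true := by decide +kernel

theorem sd108 : U.sends [7, 3, 7] 0 64 = true := by decide +kernel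

theorem gr109 : sub (ones 43605) (U.growI ([7, 3, 7] :: W2) [0, 1, 3, 4, 5, 5, 4, 3, 2, 1, 0, 0, 1, 2, 3, 4, 5, 5, 4, 3, 2, 1, 0, 0, 1, 2, 3, 4] (Nat.shiftLeft 1 0)) = true := by decide +kernel

theorem gr112 : sub M111 (U.growI W2 [0, 1, 2, 3, 4, 4, 3, 2, 1, 0, 1, 2, 4] (Nat.shiftLeft 1 114)) = true := by decide +kernel

theorem sd114 : U.sends [3, 7, 3, 3] 0 114 = true := by decide +kernel

theorem gr115 : sub (ones 43605) (U.growI ([3, 7, 3, 3] :: W2) [0, 1, 2, 3, 4, 5, 5, 4, 3, 2, 1, 0, 0, 1, 2, 3, 4, 5, 5, 4, 3, 2, 1, 0, 0, 1] (Nat.shiftLeft 1 0)) = true := by decide +kernel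

theorem gr118 : sub M117 (U.growI W2 [0, 1, 2, 3, 4, 4, 3, 2, 1, 0, 1, 2, 4] (Nat.shiftLeft 1 73)) = true := by decide +kernel

theorem sd120 : U.sends [3, 1, 7, 3] 0 73 = true := by decide +kernel

theorem gr121 : sub (ones 43605) (U.growI ([3, 1, 7, 3] :: W2) [0, 1, 2, 3, 4, 5, 5, 4, 3, 2, 1, 0, 0, 1, 2, 3, 4, 5, 5, 4, 3, 2, 1, 0, 0, 1] (Nat.shiftLeft 1 0)) = true := by decide +kernel

theorem gr124 : sub M123 (U.growI W2 [0, 1, 2, 3, 4, 4, 3, 2, 1, 0, 1, 2, 4, 4, 3] (Nat.shiftLeft 1 58)) = true := by decide +kernel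

theorem sd126 : U.sends [7, 1, 7] 0 58 = true := by decide +kernel

theorem gr127 : sub (ones 43605) (U.growI ([7, 1, 7] :: W2) [0, 1, 2, 3, 4, 5, 5, 4, 3, 2, 1, 0, 0, 1, 2, 3, 4, 5, 5, 4, 3, 2, 1, 0, 0, 1, 2, 3] (Nat.shiftLeft 1 0)) = true := by decide +kernel

theorem gr130 : sub M129 (U.growI W2 [0, 1, 2, 3, 4, 4, 3, 2, 1, 0, 1, 2, 4, 4, 3] (Nat.shiftLeft 1 901)) = true := by decide +kernel

theorem sd132 : U.sends [3, 3, 7, 7, 1, 7] 0 901 = true := by decide +kernel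

theorem gr133 : sub (ones 43605) (U.growI ([3, 3, 7, 7, 1, 7] :: W2) [0, 1, 2, 3, 4, 5, 5, 4, 3, 2, 1, 0, 0, 1, 2, 3, 4, 5, 5, 4, 3, 2, 1, 0, 0, 1] (Nat.shiftLeft 1 0)) = true := by decide +kernel

theorem gr136 : sub M135 (U.growI W2 [0, 1, 2, 3, 4, 4, 3, 2, 1, 0, 1, 2, 4, 4, 2] (Nat.shiftLeft 1 1873)) = true := by decide +kernel

theorem sd138 : U.sends [7, 1, 7, 3, 5, 3] 0 1873 = true := by decide +kernel

theorem gr139 : sub (ones 43605) (U.growI ([7, 1, 7, 3, 5, 3] :: W2) [0, 1, 2, 3, 4, 5, 5, 4, 3, 2, 1, 0, 0, 1, 2, 3, 4, 5, 5, 4, 3, 2, 1, 0, 0, 1] (Nat.shiftLeft 1 0)) = true := by decide +kernel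

theorem gr142 : sub M141 (U.growI W2 [0, 1, 2, 3, 4, 4, 3, 2, 1, 0, 1, 2, 3, 4, 4] (Nat.shiftLeft 1 8463)) = true := by decide +kernel

theorem sd144 : U.sends [3, 5, 1, 5, 7, 1, 7, 3] 0 8463 = true := by decide +kernel

theorem gr145 : sub (ones 43605) (U.growI ([3, 5, 1, 5, 7, 1, 7, 3] :: W2) [0, 1, 2, 3, 4, 5, 5, 4, 3, 2, 1, 0, 0, 1, 2, 3, 4, 5, 5, 4, 3, 2, 1, 0, 0] (Nat.shiftLeft 1 0)) = true := by decide +kernel

theorem gr148 : sub M147 (U.growI W2 [0, 1, 2, 3, 4, 4, 3, 2, 1, 0, 1, 2, 3, 4, 4, 3, 2] (Nat.shiftLeft 1 46)) = true := by decide +kernel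

theorem sd150 : U.sends [5, 1, 7] 0 46 = true := by decide +kernel

theorem gr151 : sub (ones 43605) (U.growI ([5, 1, 7] :: W2) [0, 1, 2, 3, 4, 5, 5, 4, 3, 2, 1, 0, 0, 1, 2, 3, 4, 5, 5, 4, 3, 2, 1, 0, 0] (Nat.shiftLeft 1 0)) = true := by decide +kernel

theorem gr154 : sub M153 (U.growI W2 [0, 1, 2, 3, 4, 4, 3, 2, 1, 0, 1, 2, 3, 4, 4, 3, 2] (Nat.shiftLeft 1 57)) = true := by decide +kernel

theorem sd156 : U.sends [7, 1, 5] 0 57 = true := by decide +kernel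

theorem gr157 : sub (ones 43605) (U.growI ([7, 1, 5] :: W2) [0, 1, 2, 3, 4, 5, 5, 4, 3, 2, 1, 0, 0, 1, 2, 3, 4, 5, 5, 4, 3, 2, 1, 0, 0] (Nat.shiftLeft 1 0)) = true := by decide +kernel

theorem gr160 : sub M159 (U.growI W2 [0, 1, 2, 3, 4, 4, 3, 2, 1, 0, 1, 2, 3, 4, 4, 3, 2] (Nat.shiftLeft 1 189)) = true := by decide +kernel

theorem sd162 : U.sends [7, 1, 7, 7] 0 189 = true := by decide +kernel

theorem gr163 : sub (ones 43605) (U.growI ([7, 1, 7, 7] :: W2) [0, 1, 2, 3, 4, 5, 5, 4, 3, 2, 1, 0, 0, 1, 2, 3, 4, 5, 5, 4, 3, 2, 1, 0, 0] (Nat.shiftLeft 1 0)) = true := by decide +kernel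

theorem gr166 : sub M165 (U.growI W2 [0, 1, 2, 3, 4, 4, 3, 2, 1, 0, 1, 2, 3, 4, 4, 3, 2] (Nat.shiftLeft 1 98)) = true := by decide +kernel

theorem sd168 : U.sends [3, 5, 1, 7] 0 98 = true := by decide +kernel

theorem gr169 : sub (ones 43605) (U.growI ([3, 5, 1, 7] :: W2) [0, 1, 2, 3, 4, 5, 5, 4, 3, 2, 1, 0, 0, 1, 2, 3, 4, 5, 5, 4, 3, 2, 1, 0, 0] (Nat.shiftLeft 1 0)) = true := by decide +kernel

theorem gr172 : sub M171 (U.growI W2 [0, 1, 2, 3, 4, 4, 3, 2, 1, 0, 1, 2, 3, 4, 4, 3, 2] (Nat.shiftLeft 1 109)) = true := by decide +kernel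

theorem sd174 : U.sends [3, 7, 1, 5] 0 109 = true := by decide +kernel

theorem gr175 : sub (ones 43605) (U.growI ([3, 7, 1, 5] :: W2) [0, 1, 2, 3, 4, 5, 5, 4, 3, 2, 1, 0, 0, 1, 2, 3, 4, 5, 5, 4, 3, 2, 1, 0, 0] (Nat.shiftLeft 1 0)) = true := by decide +kernel

theorem gr178 : sub M177 (U.growI W2 [0, 1, 2, 3, 4, 4, 3, 2, 1, 0, 1, 2, 3, 4, 4, 3, 2] (Nat.shiftLeft 1 110)) = true := by decide +kernel

theorem sd180 : U.sends [3, 7, 1, 7] 0 110 = true := by decide +kernel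

theorem gr181 : sub (ones 43605) (U.growI ([3, 7, 1, 7] :: W2) [0, 1, 2, 3, 4, 5, 5, 4, 3, 2, 1, 0, 0, 1, 2, 3, 4, 5, 5, 4, 3, 2, 1, 0, 0] (Nat.shiftLeft 1 0)) = true := by decide +kernel

theorem gr184 : sub M183 (U.growI W2 [0, 1, 2, 3, 4, 4, 3, 2, 1, 0, 1, 2, 3, 4, 4, 3, 2] (Nat.shiftLeft 1 287)) = true := by decide +kernel

theorem sd186 : U.sends [3, 5, 1, 7, 3] 0 287 = true := by decide +kernel

theorem gr187 : sub (ones 43605) (U.growI ([3, 5, 1, 7, 3] :: W2) [0, 1, 2, 3, 4, 5, 5, 4, 3, 2, 1, 0, 0, 1, 2, 3, 4, 5, 5, 4, 3, 2, 1, 0, 0] (Nat.shiftLeft 1 0)) = true := by decide +kernel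

theorem gr190 : sub M189 (U.growI W2 [0, 1, 2, 3, 4, 4, 3, 2, 1, 0, 1, 2, 3, 4, 4, 3, 2] (Nat.shiftLeft 1 222)) = true := by decide +kernel

theorem sd192 : U.sends [3, 1, 7, 1, 5] 0 222 = true := by decide +kernel

theorem gr193 : sub (ones 43605) (U.growI ([3, 1, 7, 1, 5] :: W2) [0, 1, 2, 3, 4, 5, 5, 4, 3, 2, 1, 0, 0, 1, 2, 3, 4, 5, 5, 4, 3, 2, 1, 0, 0] (Nat.shiftLeft 1 0)) = true := by decide +kernel

theorem gr196 : sub M195 (U.growI W2 [0, 1, 2, 3, 4, 4, 3, 2, 1, 0, 1, 2, 3, 4, 4, 3, 2] (Nat.shiftLeft 1 152)) = true := by decide +kernel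

theorem sd198 : U.sends [5, 7, 1, 7] 0 152 = true := by decide +kernel

theorem gr199 : sub (ones 43605) (U.growI ([5, 7, 1, 7] :: W2) [0, 1, 2, 3, 4, 5, 5, 4, 3, 2, 1, 0, 0, 1, 2, 3, 4, 5, 5, 4, 3, 2, 1, 0, 0] (Nat.shiftLeft 1 0)) = true := by decide +kernel

theorem gr202 : sub M201 (U.growI W2 [0, 1, 2, 3, 4, 4, 3, 2, 1, 0, 1, 2, 3, 4, 4, 3, 2] (Nat.shiftLeft 1 188)) = true := by decide +kernel

theorem sd204 : U.sends [7, 1, 7, 5] 0 188 = true := by decide +kernel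

theorem gr205 : sub (ones 43605) (U.growI ([7, 1, 7, 5] :: W2) [0, 1, 2, 3, 4, 5, 5, 4, 3, 2, 1, 0, 0, 1, 2, 3, 4, 5, 5, 4, 3, 2, 1, 0, 0] (Nat.shiftLeft 1 0)) = true := by decide +kernel

theorem gr208 : sub M207 (U.growI W2 [0, 1, 2, 3, 4, 4, 3, 2, 1, 0, 1, 2, 3, 4, 4, 3, 2] (Nat.shiftLeft 1 179)) = true := by decide +kernel

theorem sd210 : U.sends [7, 1, 3, 7] 0 179 = true := by decide +kernel

theorem gr211 : sub (ones 43605) (U.growI ([7, 1, 3, 7] :: W2) [0, 1, 2, 3, 4, 5, 5, 4, 3, 2, 1, 0, 0, 1, 2, 3, 4, 5, 5, 4, 3, 2, 1, 0, 0] (Nat.shiftLeft 1 0)) = true := by decide +kernel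

theorem gr214 : sub M213 (U.growI W2 [0, 1, 2, 3, 4, 4, 3, 2, 1, 0, 1, 2, 3, 4, 4, 3, 2] (Nat.shiftLeft 1 192)) = true := by decide +kernel

theorem sd216 : U.sends [7, 3, 1, 7] 0 192 = true := by decide +kernel

theorem gr217 : sub (ones 43605) (U.growI ([7, 3, 1, 7] :: W2) [0, 1, 2, 3, 4, 5, 5, 4, 3, 2, 1, 0, 0, 1, 2, 3, 4, 5, 5, 4, 3, 2, 1, 0, 0, 1] (Nat.shiftLeft 1 0)) = true := by decide +kernel

theorem gr220 : sub M219 (U.growI W2 [0, 1, 2, 3, 4, 4, 3, 2, 1, 0, 1, 2, 3, 4, 4, 3, 2] (Nat.shiftLeft 1 187)) = true := by decide +kernel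

theorem sd222 : U.sends [7, 1, 7, 3] 0 187 = true := by decide +kernel

theorem gr223 : sub (ones 43605) (U.growI ([7, 1, 7, 3] :: W2) [0, 1, 2, 3, 4, 5, 5, 4, 3, 2, 1, 0, 0, 1, 2, 3, 4, 5, 5, 4, 3, 2, 1, 0] (Nat.shiftLeft 1 0)) = true := by decide +kernel

theorem gr226 : sub M225 (U.growI W2 [0, 1, 2, 3, 4, 4, 3, 2, 1, 0, 1, 2, 3, 4, 4, 3, 2] (Nat.shiftLeft 1 306)) = true := by decide +kernel

theorem sd228 : U.sends [3, 7, 7, 1, 7] 0 306 = true := by decide +kernel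

theorem gr229 : sub (ones 43605) (U.growI ([3, 7, 7, 1, 7] :: W2) [0, 1, 2, 3, 4, 5, 5, 4, 3, 2, 1, 0, 0, 1, 2, 3, 4, 5, 5, 4, 3, 2, 1, 0, 0] (Nat.shiftLeft 1 0)) = true := by decide +kernel

theorem gr232 : sub M231 (U.growI W2 [0, 1, 2, 3, 4, 4, 3, 2, 1, 0, 1, 2, 3, 4, 4, 3, 2] (Nat.shiftLeft 1 682)) = true := by decide +kernel

theorem sd234 : U.sends [3, 1, 7, 1, 3, 5] 0 682 = true := by decide +kernel

theorem gr235 : sub (ones 43605) (U.growI ([3, 1, 7, 1, 3, 5] :: W2) [0, 1, 2, 3, 4, 5, 5, 4, 3, 2, 1, 0, 0, 1, 2, 3, 4, 5, 5, 4, 3, 2, 1, 0, 0] (Nat.shiftLeft 1 0)) = true := by decide +kernel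

theorem gr238 : sub M237 (U.growI W2 [0, 1, 2, 3, 4, 4, 3, 2, 1, 0, 1, 2, 3, 4, 4, 3, 2] (Nat.shiftLeft 1 299)) = true := by decide +kernel

theorem sd240 : U.sends [3, 5, 7, 1, 7] 0 299 = true := by decide +kernel

theorem gr241 : sub (ones 43605) (U.growI ([3, 5, 7, 1, 7] :: W2) [0, 1, 2, 3, 4, 5, 5, 4, 3, 2, 1, 0, 0, 1, 2, 3, 4, 5, 5, 4, 3, 2, 1, 0, 0] (Nat.shiftLeft 1 0)) = true := by decide +kernel

theorem gr244 : sub M243 (U.growI W2 [0, 1, 2, 3, 4, 4, 3, 2, 1, 0, 1, 2, 3, 4, 4, 3, 2] (Nat.shiftLeft 1 473)) = true := by decide +kernel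

theorem sd246 : U.sends [3, 1, 7, 1, 7, 5] 0 473 = true := by decide +kernel

theorem gr247 : sub (ones 43605) (U.growI ([3, 1, 7, 1, 7, 5] :: W2) [0, 1, 2, 3, 4, 5, 5, 4, 3, 2, 1, 0, 0, 1, 2, 3, 4, 5, 5, 4, 3, 2, 1, 0, 0] (Nat.shiftLeft 1 0)) = true := by decide +kernel

theorem gr250 : sub M249 (U.growI W2 [0, 1, 2, 3, 4, 4, 3, 2, 1, 0, 1, 2, 3, 4, 4, 3, 2] (Nat.shiftLeft 1 321)) = true := by decide +kernel

theorem sd252 : U.sends [3, 7, 1, 7, 3] 0 321 = true := by decide +kernel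

theorem gr253 : sub (ones 43605) (U.growI ([3, 7, 1, 7, 3] :: W2) [0, 1, 2, 3, 4, 5, 5, 4, 3, 2, 1, 0, 0, 1, 2, 3, 4, 5, 5, 4, 3, 2, 1, 0, 0, 1] (Nat.shiftLeft 1 0)) = true := by decide +kernel

theorem gr256 : sub M255 (U.growI W2 [0, 1, 2, 3, 4, 4, 3, 2, 1, 0, 1, 2, 3, 4, 4, 3, 2] (Nat.shiftLeft 1 1066)) = true := by decide +kernel

theorem sd258 : U.sends [3, 7, 3, 1, 7, 7] 0 1066 = true := by decide +kernel

theorem gr259 : sub (ones 43605) (U.growI ([3, 7, 3, 1, 7, 7] :: W2) [0, 1, 2, 3, 4, 5, 5, 4, 3, 2, 1, 0, 0, 1, 2, 3, 4, 5, 5, 4, 3, 2, 1, 0, 0] (Nat.shiftLeft 1 0)) = true := by decide +kernel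

theorem gr262 : sub M261 (U.growI W2 [0, 1, 2, 3, 4, 4, 3, 2, 1, 0, 1, 2, 3, 4, 4, 3, 2] (Nat.shiftLeft 1 446)) = true := by decide +kernel

theorem sd264 : U.sends [5, 7, 1, 3, 7] 0 446 = true := by decide +kernel

theorem gr265 : sub (ones 43605) (U.growI ([5, 7, 1, 3, 7] :: W2) [0, 1, 2, 3, 4, 5, 5, 4, 3, 2, 1, 0, 0, 1, 2, 3, 4, 5, 5, 4, 3, 2, 1, 0, 0] (Nat.shiftLeft 1 0)) = true := by decide +kernel

theorem gr268 : sub M267 (U.growI W2 [0, 1, 2, 3, 4, 4, 3, 2, 1, 0, 1, 2, 3, 4, 4, 3, 2] (Nat.shiftLeft 1 517)) = true := by decide +kernel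

theorem sd270 : U.sends [7, 1, 3, 5, 7] 0 517 = true := by decide +kernel

theorem gr271 : sub (ones 43605) (U.growI ([7, 1, 3, 5, 7] :: W2) [0, 1, 2, 3, 4, 5, 5, 4, 3, 2, 1, 0, 0, 1, 2, 3, 4, 5, 5, 4, 3, 2, 1, 0] (Nat.shiftLeft 1 0)) = true := by decide +kernel

theorem gr274 : sub M273 (U.growI W2 [0, 1, 2, 3, 4, 4, 3, 2, 1, 0, 1, 2, 3, 4, 4, 3, 2] (Nat.shiftLeft 1 1492)) = true := by decide +kernel

theorem sd276 : U.sends [5, 7, 3, 1, 7, 7] 0 1492 = true := by decide +kernel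

theorem gr277 : sub (ones 43605) (U.growI ([5, 7, 3, 1, 7, 7] :: W2) [0, 1, 2, 3, 4, 5, 5, 4, 3, 2, 1, 0, 0, 1, 2, 3, 4, 5, 5, 4, 3, 2, 1, 0] (Nat.shiftLeft 1 0)) = true := by decide +kernel

theorem gr280 : sub M279 (U.growI W2 [0, 1, 2, 3, 4, 4, 3, 2, 1, 0, 1, 2, 3, 4, 4, 3, 2] (Nat.shiftLeft 1 453)) = true := by decide +kernel

theorem sd282 : U.sends [5, 7, 1, 7, 3] 0 453 = true := by decide +kernel

theorem gr283 : sub (ones 43605) (U.growI ([5, 7, 1, 7, 3] :: W2) [0, 1, 2, 3, 4, 5, 5, 4, 3, 2, 1, 0, 0, 1, 2, 3, 4, 5, 5, 4, 3, 2, 1, 0, 0] (Nat.shiftLeft 1 0)) = true := by decide +kernel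

theorem gr286 : sub M285 (U.growI W2 [0, 1, 2, 3, 4, 4, 3, 2, 1, 0, 1, 2, 3, 4, 4, 3, 2] (Nat.shiftLeft 1 1360)) = true := by decide +kernel

theorem sd288 : U.sends [5, 1, 7, 1, 7, 3] 0 1360 = true := by decide +kernel

theorem gr289 : sub (ones 43605) (U.growI ([5, 1, 7, 1, 7, 3] :: W2) [0, 1, 2, 3, 4, 5, 5, 4, 3, 2, 1, 0, 0, 1, 2, 3, 4, 5, 5, 4, 3, 2, 1, 0, 0] (Nat.shiftLeft 1 0)) = true := by decide +kernel

theorem gr292 : sub M291 (U.growI W2 [0, 1, 2, 3, 4, 4, 3, 2, 1, 0, 1, 2, 3, 4, 4, 3, 2] (Nat.shiftLeft 1 521)) = true := by decide +kernel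

theorem sd294 : U.sends [7, 1, 3, 7, 3] 0 521 = true := by decide +kernel

theorem gr295 : sub (ones 43605) (U.growI ([7, 1, 3, 7, 3] :: W2) [0, 1, 2, 3, 4, 5, 5, 4, 3, 2, 1, 0, 0, 1, 2, 3, 4, 5, 5, 4, 3, 2, 1, 0, 0] (Nat.shiftLeft 1 0)) = true := by decide +kernel

theorem gr298 : sub M297 (U.growI W2 [0, 1, 2, 3, 4, 4, 3, 2, 1, 0, 1, 2, 3, 4, 4, 3, 2] (Nat.shiftLeft 1 560)) = true := by decide +kernel

theorem sd300 : U.sends [7, 1, 7, 3, 7] 0 560 = true := by decide +kernel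

theorem gr301 : sub (ones 43605) (U.growI ([7, 1, 7, 3, 7] :: W2) [0, 1, 2, 3, 4, 5, 5, 4, 3, 2, 1, 0, 0, 1, 2, 3, 4, 5, 5, 4, 3, 2, 1, 0, 0, 1] (Nat.shiftLeft 1 0)) = true := by decide +kernel

theorem gr304 : sub M303 (U.growI W2 [0, 1, 2, 3, 4, 4, 3, 2, 1, 0, 1, 2, 3, 4, 4, 3, 2] (Nat.shiftLeft 1 1721)) = true := by decide +kernel

theorem sd306 : U.sends [7, 1, 3, 5, 7, 3] 0 1721 = true := by decide +kernel

theorem gr307 : sub (ones 43605) (U.growI ([7, 1, 3, 5, 7, 3] :: W2) [0, 1, 2, 3, 4, 5, 5, 4, 3, 2, 1, 0, 0, 1, 2, 3, 4, 5, 5, 4, 3, 2, 1, 0, 0] (Nat.shiftLeft 1 0)) = true := by decide +kernel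

theorem gr310 : sub M309 (U.growI W2 [0, 1, 2, 3, 4, 4, 3, 2, 1, 0, 1, 2, 3, 4, 4, 3, 2] (Nat.shiftLeft 1 1061)) = true := by decide +kernel

theorem sd312 : U.sends [3, 7, 3, 1, 5, 7] 0 1061 = true := by decide +kernel

theorem gr313 : sub (ones 43605) (U.growI ([3, 7, 3, 1, 5, 7] :: W2) [0, 1, 2, 3, 4, 5, 5, 4, 3, 2, 1, 0, 0, 1, 2, 3, 4, 5, 5, 4, 3, 2, 1, 0] (Nat.shiftLeft 1 0)) = true := by decide +kernel

theorem gr316 : sub M315 (U.growI W2 [0, 1, 2, 3, 4, 4, 3, 2, 1, 0, 1, 2, 3, 4, 4, 3, 2] (Nat.shiftLeft 1 683)) = true := by decide +kernel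

theorem sd318 : U.sends [3, 1, 7, 1, 3, 7] 0 683 = true := by decide +kernel

theorem gr319 : sub (ones 43605) (U.growI ([3, 1, 7, 1, 3, 7] :: W2) [0, 1, 2, 3, 4, 5, 5, 4, 3, 2, 1, 0, 0, 1, 2, 3, 4, 5, 5, 4, 3, 2, 1, 0, 0] (Nat.shiftLeft 1 0)) = true := by decide +kernel

theorem gr322 : sub M321 (U.growI W2 [0, 1, 2, 3, 4, 4, 3, 2, 1, 0, 1, 2, 3, 4, 4, 3, 2] (Nat.shiftLeft 1 1388)) = true := by decide +kernel

theorem sd324 : U.sends [5, 1, 7, 7, 1, 5] 0 1388 = true := by decide +kernel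

theorem gr325 : sub (ones 43605) (U.growI ([5, 1, 7, 7, 1, 5] :: W2) [0, 1, 2, 3, 4, 5, 5, 4, 3, 2, 1, 0, 0, 1, 2, 3, 4, 5, 5, 4, 3, 2, 1, 0, 0] (Nat.shiftLeft 1 0)) = true := by decide +kernel

theorem gr328 : sub M327 (U.growI W2 [0, 1, 2, 3, 4, 4, 3, 2, 1, 0, 1, 2, 3, 4, 4, 3, 2] (Nat.shiftLeft 1 1474)) = true := by decide +kernel

theorem sd330 : U.sends [5, 7, 1, 7, 3, 7] 0 1474 = true := by decide +kernel

theorem gr331 : sub (ones 43605) (U.growI ([5, 7, 1, 7, 3, 7] :: W2) [0, 1, 2, 3, 4, 5, 5, 4, 3, 2, 1, 0, 0, 1, 2, 3, 4, 5, 5, 4, 3, 2, 1, 0, 0] (Nat.shiftLeft 1 0)) = true := by decide +kernel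

theorem gr334 : sub M333 (U.growI W2 [0, 1, 2, 3, 4, 4, 3, 2, 1, 0, 1, 2, 3, 4, 4, 3, 2] (Nat.shiftLeft 1 3241)) = true := by decide +kernel

theorem sd336 : U.sends [3, 7, 1, 3, 7, 3, 7] 0 3241 = true := by decide +kernel

theorem gr337 : sub (ones 43605) (U.growI ([3, 7, 1, 3, 7, 3, 7] :: W2) [0, 1, 2, 3, 4, 5, 5, 4, 3, 2, 1, 0, 0, 1, 2, 3, 4, 5, 5, 4, 3, 2, 1, 0, 0, 1] (Nat.shiftLeft 1 0)) = true := by decide +kernel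

theorem ff339 : U.fixFrom 16 43605 1 = true := by decide +kernel

theorem ff340 : U.fixFrom 16 43605 3 = true := by decide +kernel

theorem ff341 : U.fixFrom 16 43605 5 = true := by decide +kernel

theorem ff342 : U.fixFrom 16 43605 7 = true := by decide +kernel

end Cfsg.Agent.Spor.J3i.S
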