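import Cfsg.Agent.Spor.Prim
import Cfsg.Agent.Spor.J3i.Main
import Cfsg.Agent.Spor.J3i.S.C0

set_option autoImplicit false
set_option maxRecDepth 100000000
set_option Elab.async false

namespace Cfsg.Agent.Spor.J3i.S

theorem hU : U.Ok 16 := U.ok_of 16 (show AllP (fun n => Net.okb 16 n = true) [n0, n1, n2, n3, n4, n5, n6, n7] from AllP.cons ok0 (AllP.cons ok1 (AllP.cons ok2 (AllP.cons ok3 (AllP.cons ok4 (AllP.cons ok5 (AllP.cons ok6 (AllP.cons ok7 (AllP.nil)))))))))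

theorem hfP : ∀ j < 4, U.fP [1, 3, 5, 7] j = fP j := by
  intro j hj
  interval_cases j <;> rfl
theorem eG : gsub 4 fP = U.lsub W1 := (gsub_congr hfP).symm.trans (lsub_eq_gsub U [1, 3, 5, 7])
theorem upz1 : ev (atm 4 fP) [0] = U.τ 1 := pz1
theorem upz3 : ev (atm 4 fP) [2] = U.τ 3 := pz2
theorem upz5 : ev (atm 4 fP) [4] = U.τ 5 := pz3
theorem upz7 : ev (atm 4 fP) [6] = U.τ 7 := pz4
theorem upz9 : ev (atm 4 fP) [7, 4, 6] = U.τ 9 := pz8
theorem upz11 : ev (atm 4 fP) [6, 6, 6] = U.τ 11 := pz10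
theorem upz13 : ev (atm 4 fP) [3, 3, 3, 3] = U.τ 13 := pz12
theorem upz15 : ev (atm 4 fP) [3, 3, 6, 0, 6, 2, 2] = U.τ 15 := pz14
theorem eH : wsub 4 fP BW = U.lsub W2 :=
  lsub_eq_of_all₂ (show List.Forall₂ _ [[0], [7, 4, 6], [6, 6, 6], [3, 3, 3, 3], [3, 3, 6, 0, 6, 2, 2]] [[1], [9], [11], [13], [15]] from List.Forall₂.cons (upz1.trans (one_mul _).symm) (List.Forall₂.cons (upz9.trans (one_mul _).symm) (List.Forall₂.cons (upz11.trans (one_mul _).symm) (List.Forall₂.cons (upz13.trans (one_mul _).symm) (List.Forall₂.cons (upz15.trans (one_mul _).symm) (List.Forall₂.nil))))))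
theorem reach5 : Reach (U.lsub W2) 136 M3 := (Reach.grow hU (Reach.base _ 136) gr4)
theorem reach8 : Reach (U.lsub ([3, 3, 7, 3, 3] :: W2)) 0 (ones 43605) := (Reach.grow hU (Reach.base _ 0) gr7)
theorem reach11 : Reach (U.lsub W2) 97 M9 := (Reach.grow hU (Reach.base _ 97) gr10)
theorem reach14 : Reach (U.lsub ([3, 5, 1, 5] :: W2)) 0 (ones 43605) := (Reach.grow hU (Reach.base _ 0) gr13)
theorem reach17 : Reach (U.lsub W2) 365 M15 := (Reach.grow hU (Reach.base _ 365) gr16)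
theorem reach20 : Reach (U.lsub ([3, 3, 7, 3, 5, 3] :: W2)) 0 (ones 43605) := (Reach.grow hU (Reach.base _ 0) gr19)
theorem reach23 : Reach (U.lsub W2) 7 M21 := (Reach.grow hU (Reach.base _ 7) gr22)
theorem reach26 : Reach (U.lsub ([3, 3] :: W2)) 0 (ones 43605) := (Reach.grow hU (Reach.base _ 0) gr25)
theorem reach29 : Reach (U.lsub W2) 1348 M27 := (Reach.grow hU (Reach.base _ 1348) gr28)
theorem reach32 : Reach (U.lsub ([3, 5, 1, 7, 3, 5, 3] :: W2)) 0 (ones 43605) := (Reach.grow hU (Reach.base _ 0) gr31)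
theorem reach35 : Reach (U.lsub W2) 1534 M33 := (Reach.grow hU (Reach.base _ 1534) gr34)
theorem reach38 : Reach (U.lsub ([5, 7, 3, 7, 1, 5] :: W2)) 0 (ones 43605) := (Reach.grow hU (Reach.base _ 0) gr37)
theorem reach41 : Reach (U.lsub W2) 2 M39 := (Reach.grow hU (Reach.base _ 2) gr40)
theorem reach44 : Reach (U.lsub ([5] :: W2)) 0 (ones 43605) := (Reach.grow hU (Reach.base _ 0) gr43)
theorem reach47 : Reach (U.lsub W2) 310 M45 := (Reach.grow hU (Reach.base _ 310) gr46)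
theorem reach50 : Reach (U.lsub ([3, 1, 7, 7, 3, 7] :: W2)) 0 (ones 43605) := (Reach.grow hU (Reach.base _ 0) gr49)
theorem reach53 : Reach (U.lsub W2) 1 M51 := (Reach.grow hU (Reach.base _ 1) gr52)
theorem reach56 : Reach (U.lsub ([3] :: W2)) 0 (ones 43605) := (Reach.grow hU (Reach.base _ 0) gr55)
theorem reach59 : Reach (U.lsub W2) 28 M57 := (Reach.grow hU (Reach.base _ 28) gr58)
theorem reach62 : Reach (U.lsub ([3, 3, 7] :: W2)) 0 (ones 43605) := (Reach.grow hU (Reach.base _ 0) gr61)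
theorem reach65 : Reach (U.lsub W2) 62 M63 := (Reach.grow hU (Reach.base _ 62) gr64)
theorem reach68 : Reach (U.lsub ([7, 3, 3] :: W2)) 0 (ones 43605) := (Reach.grow hU (Reach.base _ 0) gr67)
theorem reach71 : Reach (U.lsub W2) 20203 M69 := (Reach.grow hU (Reach.base _ 20203) gr70)
theorem reach74 : Reach (U.lsub ([3, 5, 3, 7, 1, 7, 7, 3, 7] :: W2)) 0 (ones 43605) := (Reach.grow hU (Reach.base _ 0) gr73)
theorem reach77 : Reach (U.lsub W2) 3 M75 := (Reach.grow hU (Reach.base _ 3) gr76)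
theorem reach80 : Reach (U.lsub ([7] :: W2)) 0 (ones 43605) := (Reach.grow hU (Reach.base _ 0) gr79)
theorem reach83 : Reach (U.lsub W2) 9 M81 := (Reach.grow hU (Reach.base _ 9) gr82)
theorem reach86 : Reach (U.lsub ([3, 7] :: W2)) 0 (ones 43605) := (Reach.grow hU (Reach.base _ 0) gr85)
theorem reach89 : Reach (U.lsub W2) 17 M87 := (Reach.grow hU (Reach.base _ 17) gr88)
theorem reach92 : Reach (U.lsub ([7, 3] :: W2)) 0 (ones 43605) := (Reach.grow hU (Reach.base _ 0) gr91)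
theorem reach95 : Reach (U.lsub W2) 35 M93 := (Reach.grow hU (Reach.base _ 35) gr94)
theorem reach98 : Reach (U.lsub ([3, 7, 3] :: W2)) 0 (ones 43605) := (Reach.grow hU (Reach.base _ 0) gr97)
theorem reach101 : Reach (U.lsub W2) 108 M99 := (Reach.grow hU (Reach.base _ 108) gr100)
theorem reach104 : Reach (U.lsub ([3, 7, 1, 3] :: W2)) 0 (ones 43605) := (Reach.grow hU (Reach.base _ 0) gr103)
theorem reach107 : Reach (U.lsub W2) 64 M105 := (Reach.grow hU (Reach.base _ 64) gr106)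
theorem reach110 : Reach (U.lsub ([7, 3, 7] :: W2)) 0 (ones 43605) := (Reach.grow hU (Reach.base _ 0) gr109)
theorem reach113 : Reach (U.lsub W2) 114 M111 := (Reach.grow hU (Reach.base _ 114) gr112)
theorem reach116 : Reach (U.lsub ([3, 7, 3, 3] :: W2)) 0 (ones 43605) := (Reach.grow hU (Reach.base _ 0) gr115)
theorem reach119 : Reach (U.lsub W2) 73 M117 := (Reach.grow hU (Reach.base _ 73) gr118)
theorem reach122 : Reach (U.lsub ([3, 1, 7, 3] :: W2)) 0 (ones 43605) := (Reach.grow hU (Reach.base _ 0) gr121)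
theorem reach125 : Reach (U.lsub W2) 58 M123 := (Reach.grow hU (Reach.base _ 58) gr124)
theorem reach128 : Reach (U.lsub ([7, 1, 7] :: W2)) 0 (ones 43605) := (Reach.grow hU (Reach.base _ 0) gr127)
theorem reach131 : Reach (U.lsub W2) 901 M129 := (Reach.grow hU (Reach.base _ 901) gr130)
theorem reach134 : Reach (U.lsub ([3, 3, 7, 7, 1, 7] :: W2)) 0 (ones 43605) := (Reach.grow hU (Reach.base _ 0) gr133)
theorem reach137 : Reach (U.lsub W2) 1873 M135 := (Reach.grow hU (Reach.base _ 1873) gr136)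
theorem reach140 : Reach (U.lsub ([7, 1, 7, 3, 5, 3] :: W2)) 0 (ones 43605) := (Reach.grow hU (Reach.base _ 0) gr139)
theorem reach143 : Reach (U.lsub W2) 8463 M141 := (Reach.grow hU (Reach.base _ 8463) gr142)
theorem reach146 : Reach (U.lsub ([3, 5, 1, 5, 7, 1, 7, 3] :: W2)) 0 (ones 43605) := (Reach.grow hU (Reach.base _ 0) gr145)
theorem reach149 : Reach (U.lsub W2) 46 M147 := (Reach.grow hU (Reach.base _ 46) gr148)
theorem reach152 : Reach (U.lsub ([5, 1, 7] :: W2)) 0 (ones 43605) := (Reach.grow hU (Reach.base _ 0) gr151)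
theorem reach155 : Reach (U.lsub W2) 57 M153 := (Reach.grow hU (Reach.base _ 57) gr154)
theorem reach158 : Reach (U.lsub ([7, 1, 5] :: W2)) 0 (ones 43605) := (Reach.grow hU (Reach.base _ 0) gr157)
theorem reach161 : Reach (U.lsub W2) 189 M159 := (Reach.grow hU (Reach.base _ 189) gr160)
theorem reach164 : Reach (U.lsub ([7, 1, 7, 7] :: W2)) 0 (ones 43605) := (Reach.grow hU (Reach.base _ 0) gr163)
theorem reach167 : Reach (U.lsub W2) 98 M165 := (Reach.grow hU (Reach.base _ 98) gr166)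
theorem reach170 : Reach (U.lsub ([3, 5, 1, 7] :: W2)) 0 (ones 43605) := (Reach.grow hU (Reach.base _ 0) gr169)
theorem reach173 : Reach (U.lsub W2) 109 M171 := (Reach.grow hU (Reach.base _ 109) gr172)
theorem reach176 : Reach (U.lsub ([3, 7, 1, 5] :: W2)) 0 (ones 43605) := (Reach.grow hU (Reach.base _ 0) gr175)
theorem reach179 : Reach (U.lsub W2) 110 M177 := (Reach.grow hU (Reach.base _ 110) gr178)
theorem reach182 : Reach (U.lsub ([3, 7, 1, 7] :: W2)) 0 (ones 43605) := (Reach.grow hU (Reach.base _ 0) gr181)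
theorem reach185 : Reach (U.lsub W2) 287 M183 := (Reach.grow hU (Reach.base _ 287) gr184)
theorem reach188 : Reach (U.lsub ([3, 5, 1, 7, 3] :: W2)) 0 (ones 43605) := (Reach.grow hU (Reach.base _ 0) gr187)
theorem reach191 : Reach (U.lsub W2) 222 M189 := (Reach.grow hU (Reach.base _ 222) gr190)
theorem reach194 : Reach (U.lsub ([3, 1, 7, 1, 5] :: W2)) 0 (ones 43605) := (Reach.grow hU (Reach.base _ 0) gr193)
theorem reach197 : Reach (U.lsub W2) 152 M195 := (Reach.grow hU (Reach.base _ 152) gr196)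
theorem reach200 : Reach (U.lsub ([5, 7, 1, 7] :: W2)) 0 (ones 43605) := (Reach.grow hU (Reach.base _ 0) gr199)
theorem reach203 : Reach (U.lsub W2) 188 M201 := (Reach.grow hU (Reach.base _ 188) gr202)
theorem reach206 : Reach (U.lsub ([7, 1, 7, 5] :: W2)) 0 (ones 43605) := (Reach.grow hU (Reach.base _ 0) gr205)
theorem reach209 : Reach (U.lsub W2) 179 M207 := (Reach.grow hU (Reach.base _ 179) gr208)
theorem reach212 : Reach (U.lsub ([7, 1, 3, 7] :: W2)) 0 (ones 43605) := (Reach.grow hU (Reach.base _ 0) gr211)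
theorem reach215 : Reach (U.lsub W2) 192 M213 := (Reach.grow hU (Reach.base _ 192) gr214)
theorem reach218 : Reach (U.lsub ([7, 3, 1, 7] :: W2)) 0 (ones 43605) := (Reach.grow hU (Reach.base _ 0) gr217)
theorem reach221 : Reach (U.lsub W2) 187 M219 := (Reach.grow hU (Reach.base _ 187) gr220)
theorem reach224 : Reach (U.lsub ([7, 1, 7, 3] :: W2)) 0 (ones 43605) := (Reach.grow hU (Reach.base _ 0) gr223)
theorem reach227 : Reach (U.lsub W2) 306 M225 := (Reach.grow hU (Reach.base _ 306) gr226)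
theorem reach230 : Reach (U.lsub ([3, 7, 7, 1, 7] :: W2)) 0 (ones 43605) := (Reach.grow hU (Reach.base _ 0) gr229)
theorem reach233 : Reach (U.lsub W2) 682 M231 := (Reach.grow hU (Reach.base _ 682) gr232)
theorem reach236 : Reach (U.lsub ([3, 1, 7, 1, 3, 5] :: W2)) 0 (ones 43605) := (Reach.grow hU (Reach.base _ 0) gr235)
theorem reach239 : Reach (U.lsub W2) 299 M237 := (Reach.grow hU (Reach.base _ 299) gr238)
theorem reach242 : Reach (U.lsub ([3, 5, 7, 1, 7] :: W2)) 0 (ones 43605) := (Reach.grow hU (Reach.base _ 0) gr241)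
theorem reach245 : Reach (U.lsub W2) 473 M243 := (Reach.grow hU (Reach.base _ 473) gr244)
theorem reach248 : Reach (U.lsub ([3, 1, 7, 1, 7, 5] :: W2)) 0 (ones 43605) := (Reach.grow hU (Reach.base _ 0) gr247)
theorem reach251 : Reach (U.lsub W2) 321 M249 := (Reach.grow hU (Reach.base _ 321) gr250)
theorem reach254 : Reach (U.lsub ([3, 7, 1, 7, 3] :: W2)) 0 (ones 43605) := (Reach.grow hU (Reach.base _ 0) gr253)
theorem reach257 : Reach (U.lsub W2) 1066 M255 := (Reach.grow hU (Reach.base _ 1066) gr256)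
theorem reach260 : Reach (U.lsub ([3, 7, 3, 1, 7, 7] :: W2)) 0 (ones 43605) := (Reach.grow hU (Reach.base _ 0) gr259)
theorem reach263 : Reach (U.lsub W2) 446 M261 := (Reach.grow hU (Reach.base _ 446) gr262)
theorem reach266 : Reach (U.lsub ([5, 7, 1, 3, 7] :: W2)) 0 (ones 43605) := (Reach.grow hU (Reach.base _ 0) gr265)
theorem reach269 : Reach (U.lsub W2) 517 M267 := (Reach.grow hU (Reach.base _ 517) gr268)
theorem reach272 : Reach (U.lsub ([7, 1, 3, 5, 7] :: W2)) 0 (ones 43605) := (Reach.grow hU (Reach.base _ 0) gr271)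
theorem reach275 : Reach (U.lsub W2) 1492 M273 := (Reach.grow hU (Reach.base _ 1492) gr274)
theorem reach278 : Reach (U.lsub ([5, 7, 3, 1, 7, 7] :: W2)) 0 (ones 43605) := (Reach.grow hU (Reach.base _ 0) gr277)
theorem reach281 : Reach (U.lsub W2) 453 M279 := (Reach.grow hU (Reach.base _ 453) gr280)
theorem reach284 : Reach (U.lsub ([5, 7, 1, 7, 3] :: W2)) 0 (ones 43605) := (Reach.grow hU (Reach.base _ 0) gr283)
theorem reach287 : Reach (U.lsub W2) 1360 M285 := (Reach.grow hU (Reach.base _ 1360) gr286)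
theorem reach290 : Reach (U.lsub ([5, 1, 7, 1, 7, 3] :: W2)) 0 (ones 43605) := (Reach.grow hU (Reach.base _ 0) gr289)
theorem reach293 : Reach (U.lsub W2) 521 M291 := (Reach.grow hU (Reach.base _ 521) gr292)
theorem reach296 : Reach (U.lsub ([7, 1, 3, 7, 3] :: W2)) 0 (ones 43605) := (Reach.grow hU (Reach.base _ 0) gr295)
theorem reach299 : Reach (U.lsub W2) 560 M297 := (Reach.grow hU (Reach.base _ 560) gr298)
theorem reach302 : Reach (U.lsub ([7, 1, 7, 3, 7] :: W2)) 0 (ones 43605) := (Reach.grow hU (Reach.base _ 0) gr301)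
theorem reach305 : Reach (U.lsub W2) 1721 M303 := (Reach.grow hU (Reach.base _ 1721) gr304)
theorem reach308 : Reach (U.lsub ([7, 1, 3, 5, 7, 3] :: W2)) 0 (ones 43605) := (Reach.grow hU (Reach.base _ 0) gr307)
theorem reach311 : Reach (U.lsub W2) 1061 M309 := (Reach.grow hU (Reach.base _ 1061) gr310)
theorem reach314 : Reach (U.lsub ([3, 7, 3, 1, 5, 7] :: W2)) 0 (ones 43605) := (Reach.grow hU (Reach.base _ 0) gr313)
theorem reach317 : Reach (U.lsub W2) 683 M315 := (Reach.grow hU (Reach.base _ 683) gr316)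
theorem reach320 : Reach (U.lsub ([3, 1, 7, 1, 3, 7] :: W2)) 0 (ones 43605) := (Reach.grow hU (Reach.base _ 0) gr319)
theorem reach323 : Reach (U.lsub W2) 1388 M321 := (Reach.grow hU (Reach.base _ 1388) gr322)
theorem reach326 : Reach (U.lsub ([5, 1, 7, 7, 1, 5] :: W2)) 0 (ones 43605) := (Reach.grow hU (Reach.base _ 0) gr325)
theorem reach329 : Reach (U.lsub W2) 1474 M327 := (Reach.grow hU (Reach.base _ 1474) gr328)
theorem reach332 : Reach (U.lsub ([5, 7, 1, 7, 3, 7] :: W2)) 0 (ones 43605) := (Reach.grow hU (Reach.base _ 0) gr331)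
theorem reach335 : Reach (U.lsub W2) 3241 M333 := (Reach.grow hU (Reach.base _ 3241) gr334)
theorem reach338 : Reach (U.lsub ([3, 7, 1, 3, 7, 3, 7] :: W2)) 0 (ones 43605) := (Reach.grow hU (Reach.base _ 0) gr337)
noncomputable def X : List SubO := [([3, 3, 7, 3, 3], 136, M3), ([3, 5, 1, 5], 97, M9), ([3, 3, 7, 3, 5, 3], 365, M15), ([3, 3], 7, M21), ([3, 5, 1, 7, 3, 5, 3], 1348, M27), ([5, 7, 3, 7, 1, 5], 1534, M33), ([5], 2, M39), ([3, 1, 7, 7, 3, 7], 310, M45), ([3], 1, M51), ([3, 3, 7], 28, M57), ([7, 3, 3], 62, M63), ([3, 5, 3, 7, 1, 7, 7, 3, 7], 20203, M69), ([7], 3, M75), ([3, 7], 9, M81), ([7, 3], 17, M87), ([3, 7, 3], 35, M93), ([3, 7, 1, 3], 108, M99), ([7, 3, 7], 64, M105), ([3, 7, 3, 3], 114, M111), ([3, 1, 7, 3], 73, M117), ([7, 1, 7], 58, M123), ([3, 3, 7, 7, 1, 7], 901, M129), ([7, 1, 7, 3, 5, 3], 1873, M135), ([3, 5, 1, 5, 7, 1, 7, 3], 8463, M141), ([5, 1, 7], 46, M147), ([7, 1, 5], 57, M153), ([7, 1, 7,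 7], 189, M159), ([3, 5, 1, 7], 98, M165), ([3, 7, 1, 5], 109, M171), ([3, 7, 1, 7], 110, M177), ([3, 5, 1, 7, 3], 287, M183), ([3, 1, 7, 1, 5], 222, M189), ([5, 7, 1, 7], 152, M195), ([7, 1, 7, 5], 188, M201), ([7, 1, 3, 7], 179, M207), ([7, 3, 1, 7], 192, M213), ([7, 1, 7, 3], 187, M219), ([3, 7, 7, 1, 7], 306, M225), ([3, 1, 7, 1, 3, 5], 682, M231), ([3, 5, 7, 1, 7], 299, M237), ([3, 1, 7, 1, 7, 5], 473, M243), ([3, 7, 1, 7, 3], 321, M249), ([3, 7, 3, 1, 7, 7], 1066, M255), ([5, 7, 1, 3, 7], 446, M261), ([7, 1, 3, 5, 7], 517, M267), ([5, 7, 3, 1, 7, 7], 1492, M273), ([5, 7, 1, 7, 3], 453, M279), ([5, 1, 7, 1, 7, 3], 1360, M285), ([7, 1, 3, 7, 3], 521, M291), ([7, 1, 7, 3, 7], 560, M297), ([7, 1, 3, 5, 7, 3], 1721, M303), ([3, 7, 3, 1, 5, 7], 1061, M309), ([3, 1, 7, 1, 3, 7], 683, M315), ([5, 1, 7, 7, 1, 5], 1388, M321), ([5, 7, 1, 7, 3, 7], 1474, M327), ([3, 7, 1, 3, 7, 3, 7], 3241, M333)]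
theorem hX : AllP (SubOk U W2 W1) X :=
  show AllP (SubOk U W2 W1) [([3, 3, 7, 3, 3], 136, M3), ([3, 5, 1, 5], 97, M9), ([3, 3, 7, 3, 5, 3], 365, M15), ([3, 3], 7, M21), ([3, 5, 1, 7, 3, 5, 3], 1348, M27), ([5, 7, 3, 7, 1, 5], 1534, M33), ([5], 2, M39), ([3, 1, 7, 7, 3, 7], 310, M45), ([3], 1, M51), ([3, 3, 7], 28, M57), ([7, 3, 3], 62, M63), ([3, 5, 3, 7, 1, 7, 7, 3, 7], 20203, M69), ([7], 3, M75), ([3, 7], 9, M81), ([7, 3], 17, M87), ([3, 7, 3], 35, M93), ([3, 7, 1, 3], 108, M99), ([7, 3, 7], 64, M105), ([3, 7, 3, 3], 114, M111), ([3, 1, 7, 3], 73, M117), ([7, 1, 7], 58, M123), ([3, 3, 7, 7, 1, 7], 901, M129), ([7, 1, 7, 3, 5, 3], 1873, M135), ([3, 5, 1, 5, 7, 1, 7, 3], 8463, M141), ([5, 1, 7], 46, M147), ([7, 1, 5], 57, M153), ([7, 1, 7, 7], 189, M159), ([3, 5, 1, 7], 98, M165), ([3, 7, 1, 5], 109, M171), ([3, 7, 1, 7], 110, M177), ([3, 5, 1, 7, 3], 287, M183), ([3, 1, 7, 1, 5], 222, M189), ([5, 7, 1, 7], 152, M195),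 ([7, 1, 7, 5], 188, M201), ([7, 1, 3, 7], 179, M207), ([7, 3, 1, 7], 192, M213), ([7, 1, 7, 3], 187, M219), ([3, 7, 7, 1, 7], 306, M225), ([3, 1, 7, 1, 3, 5], 682, M231), ([3, 5, 7, 1, 7], 299, M237), ([3, 1, 7, 1, 7, 5], 473, M243), ([3, 7, 1, 7, 3], 321, M249), ([3, 7, 3, 1, 7, 7], 1066, M255), ([5, 7, 1, 3, 7], 446, M261), ([7, 1, 3, 5, 7], 517, M267), ([5, 7, 3, 1, 7, 7], 1492, M273), ([5, 7, 1, 7, 3], 453, M279), ([5, 1, 7, 1, 7, 3], 1360, M285), ([7, 1, 3, 7, 3], 521, M291), ([7, 1, 7, 3, 7], 560, M297), ([7, 1, 3, 5, 7, 3], 1721, M303), ([3, 7, 3, 1, 5, 7], 1061, M309), ([3, 1, 7, 1, 3, 7], 683, M315), ([5, 1, 7, 7, 1, 5], 1388, M321), ([5, 7, 1, 7, 3, 7], 1474, M327), ([3, 7, 1, 3, 7, 3, 7], 3241, M333)] from AllP.cons ⟨U.mem_letters (by decide), (hU.sends sd6), reach5⟩ (AllP.cons ⟨U.mem_letters (by decide), (hU.sends sd12), reach11⟩ (AllP.cons ⟨U.mem_letters (by decide), (hU.sends sd18), reach17⟩ (AllP.cons ⟨U.mem_letters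 (by decide), (hU.sends sd24), reach23⟩ (AllP.cons ⟨U.mem_letters (by decide), (hU.sends sd30), reach29⟩ (AllP.cons ⟨U.mem_letters (by decide), (hU.sends sd36), reach35⟩ (AllP.cons ⟨U.mem_letters (by decide), (hU.sends sd42), reach41⟩ (AllP.cons ⟨U.mem_letters (by decide), (hU.sends sd48), reach47⟩ (AllP.cons ⟨U.mem_letters (by decide), (hU.sends sd54), reach53⟩ (AllP.cons ⟨U.mem_letters (by decide), (hU.sends sd60), reach59⟩ (AllP.cons ⟨U.mem_letters (by decide), (hU.sends sd66), reach65⟩ (AllP.cons ⟨U.mem_letters (by decide), (hU.sends sd72), reach71⟩ (AllP.cons ⟨U.mem_letters (by decide), (hU.sends sd78), reach77⟩ (AllP.cons ⟨U.mem_letters (by decide), (hU.sends sd84), reach83⟩ (AllP.cons ⟨U.mem_letters (by decide), (hU.sends sd90), reach89⟩ (AllP.cons ⟨U.mem_letters (by decide), (hU.sends sd96), reach95⟩ (AllP.cons ⟨U.mem_letters (by decide), (hU.sends sd102), reach101⟩ (AllP.cons ⟨U.mem_letters (by decide), (hU.sends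 sd108), reach107⟩ (AllP.cons ⟨U.mem_letters (by decide), (hU.sends sd114), reach113⟩ (AllP.cons ⟨U.mem_letters (by decide), (hU.sends sd120), reach119⟩ (AllP.cons ⟨U.mem_letters (by decide), (hU.sends sd126), reach125⟩ (AllP.cons ⟨U.mem_letters (by decide), (hU.sends sd132), reach131⟩ (AllP.cons ⟨U.mem_letters (by decide), (hU.sends sd138), reach137⟩ (AllP.cons ⟨U.mem_letters (by decide), (hU.sends sd144), reach143⟩ (AllP.cons ⟨U.mem_letters (by decide), (hU.sends sd150), reach149⟩ (AllP.cons ⟨U.mem_letters (by decide), (hU.sends sd156), reach155⟩ (AllP.cons ⟨U.mem_letters (by decide), (hU.sends sd162), reach161⟩ (AllP.cons ⟨U.mem_letters (by decide), (hU.sends sd168), reach167⟩ (AllP.cons ⟨U.mem_letters (by decide), (hU.sends sd174), reach173⟩ (AllP.cons ⟨U.mem_letters (by decide), (hU.sends sd180), reach179⟩ (AllP.cons ⟨U.mem_letters (by decide), (hU.sends sd186), reach185⟩ (AllP.cons ⟨U.mem_letters (by decide), (hU.sends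 sd192), reach191⟩ (AllP.cons ⟨U.mem_letters (by decide), (hU.sends sd198), reach197⟩ (AllP.cons ⟨U.mem_letters (by decide), (hU.sends sd204), reach203⟩ (AllP.cons ⟨U.mem_letters (by decide), (hU.sends sd210), reach209⟩ (AllP.cons ⟨U.mem_letters (by decide), (hU.sends sd216), reach215⟩ (AllP.cons ⟨U.mem_letters (by decide), (hU.sends sd222), reach221⟩ (AllP.cons ⟨U.mem_letters (by decide), (hU.sends sd228), reach227⟩ (AllP.cons ⟨U.mem_letters (by decide), (hU.sends sd234), reach233⟩ (AllP.cons ⟨U.mem_letters (by decide), (hU.sends sd240), reach239⟩ (AllP.cons ⟨U.mem_letters (by decide), (hU.sends sd246), reach245⟩ (AllP.cons ⟨U.mem_letters (by decide), (hU.sends sd252), reach251⟩ (AllP.cons ⟨U.mem_letters (by decide), (hU.sends sd258), reach257⟩ (AllP.cons ⟨U.mem_letters (by decide), (hU.sends sd264), reach263⟩ (AllP.cons ⟨U.mem_letters (by decide), (hU.sends sd270), reach269⟩ (AllP.cons ⟨U.mem_letters (by decide), (hU.sends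 sd276), reach275⟩ (AllP.cons ⟨U.mem_letters (by decide), (hU.sends sd282), reach281⟩ (AllP.cons ⟨U.mem_letters (by decide), (hU.sends sd288), reach287⟩ (AllP.cons ⟨U.mem_letters (by decide), (hU.sends sd294), reach293⟩ (AllP.cons ⟨U.mem_letters (by decide), (hU.sends sd300), reach299⟩ (AllP.cons ⟨U.mem_letters (by decide), (hU.sends sd306), reach305⟩ (AllP.cons ⟨U.mem_letters (by decide), (hU.sends sd312), reach311⟩ (AllP.cons ⟨U.mem_letters (by decide), (hU.sends sd318), reach317⟩ (AllP.cons ⟨U.mem_letters (by decide), (hU.sends sd324), reach323⟩ (AllP.cons ⟨U.mem_letters (by decide), (hU.sends sd330), reach329⟩ (AllP.cons ⟨U.mem_letters (by decide), (hU.sends sd336), reach335⟩ (AllP.nil))))))))))))))))))))))))))))))))))))))))))))))))))))))))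
theorem hXc : subCov 43605 X = true := by decide +kernel
theorem hY : AllP (fun x : SubO => Reach (U.lsub (x.1 :: W2)) 0 (ones 43605)) X :=
  show AllP (fun x : SubO => Reach (U.lsub (x.1 :: W2)) 0 (ones 43605)) [([3, 3, 7, 3, 3], 136, M3), ([3, 5, 1, 5], 97, M9), ([3, 3, 7, 3, 5, 3], 365, M15), ([3, 3], 7, M21), ([3, 5, 1, 7, 3, 5, 3], 1348, M27), ([5, 7, 3, 7, 1, 5], 1534, M33), ([5], 2, M39), ([3, 1, 7, 7, 3, 7], 310, M45), ([3], 1, M51), ([3, 3, 7], 28, M57), ([7, 3, 3], 62, M63), ([3, 5, 3, 7, 1, 7, 7, 3, 7], 20203, M69), ([7], 3, M75), ([3, 7], 9, M81), ([7, 3], 17, M87), ([3, 7, 3], 35, M93), ([3, 7, 1, 3], 108, M99), ([7, 3, 7], 64, M105), ([3, 7, 3, 3], 114, M111), ([3, 1, 7, 3], 73, M117), ([7, 1, 7], 58, M123), ([3, 3, 7, 7, 1, 7], 901, M129), ([7, 1, 7, 3, 5, 3], 1873, M135), ([3, 5, 1, 5, 7, 1, 7, 3], 8463, M141), ([5, 1, 7], 46, M147), ([7, 1, 5], 57, M153), ([7, 1, 7, 7], 189, M159), ([3, 5, 1, 7], 98, M165),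 ([3, 7, 1, 5], 109, M171), ([3, 7, 1, 7], 110, M177), ([3, 5, 1, 7, 3], 287, M183), ([3, 1, 7, 1, 5], 222, M189), ([5, 7, 1, 7], 152, M195), ([7, 1, 7, 5], 188, M201), ([7, 1, 3, 7], 179, M207), ([7, 3, 1, 7], 192, M213), ([7, 1, 7, 3], 187, M219), ([3, 7, 7, 1, 7], 306, M225), ([3, 1, 7, 1, 3, 5], 682, M231), ([3, 5, 7, 1, 7], 299, M237), ([3, 1, 7, 1, 7, 5], 473, M243), ([3, 7, 1, 7, 3], 321, M249), ([3, 7, 3, 1, 7, 7], 1066, M255), ([5, 7, 1, 3, 7], 446, M261), ([7, 1, 3, 5, 7], 517, M267), ([5, 7, 3, 1, 7, 7], 1492, M273), ([5, 7, 1, 7, 3], 453, M279), ([5, 1, 7, 1, 7, 3], 1360, M285), ([7, 1, 3, 7, 3], 521, M291), ([7, 1, 7, 3, 7], 560, M297), ([7, 1, 3, 5, 7, 3], 1721, M303), ([3, 7, 3, 1, 5, 7], 1061, M309), ([3, 1, 7, 1, 3, 7], 683, M315), ([5, 1, 7, 7, 1, 5], 1388, M321), ([5, 7, 1, 7, 3, 7], 1474, M327), ([3, 7, 1, 3, 7, 3, 7], 3241, M333)] from AllP.cons reach8 (AllP.cons reach14 (AllP.cons reach20 (AllP.cons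 reach26 (AllP.cons reach32 (AllP.cons reach38 (AllP.cons reach44 (AllP.cons reach50 (AllP.cons reach56 (AllP.cons reach62 (AllP.cons reach68 (AllP.cons reach74 (AllP.cons reach80 (AllP.cons reach86 (AllP.cons reach92 (AllP.cons reach98 (AllP.cons reach104 (AllP.cons reach110 (AllP.cons reach116 (AllP.cons reach122 (AllP.cons reach128 (AllP.cons reach134 (AllP.cons reach140 (AllP.cons reach146 (AllP.cons reach152 (AllP.cons reach158 (AllP.cons reach164 (AllP.cons reach170 (AllP.cons reach176 (AllP.cons reach182 (AllP.cons reach188 (AllP.cons reach194 (AllP.cons reach200 (AllP.cons reach206 (AllP.cons reach212 (AllP.cons reach218 (AllP.cons reach224 (AllP.cons reach230 (AllP.cons reach236 (AllP.cons reach242 (AllP.cons reach248 (AllP.cons reach254 (AllP.cons reach260 (AllP.cons reach266 (AllP.cons reach272 (AllP.cons reach278 (AllP.cons reach284 (AllP.cons reach290 (AllP.cons reach296 (AllP.cons reach302 (AllP.cons reach308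 (AllP.cons reach314 (AllP.cons reach320 (AllP.cons reach326 (AllP.cons reach332 (AllP.cons reach338 (AllP.nil))))))))))))))))))))))))))))))))))))))))))))))))))))))))
theorem hfix : gsub 4 fP ≤ FixFrom 43605 := (gsub_congr hfP).symm.le.trans (hU.gsub_fix (gs := [1, 3, 5, 7]) (AllP.cons ff339 (AllP.cons ff340 (AllP.cons ff341 (AllP.cons ff342 (AllP.nil))))))

end Cfsg.Agent.Spor.J3i.S
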